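import Groth.Agent.L16.Matsushima.PolyAct
import Groth.Agent.L25.Observable.Transfer
import Groth.Agent.L25.Observable.ExtendMain
import Mathlib.Algebra.Polynomial.AlgebraMap
import Mathlib.Algebra.MvPolynomial.Eval
import Mathlib.Algebra.Polynomial.Roots

/-!
# A reductive group has no functions translating by a non-trivial additive function
-/

set_option autoImplicit false
set_option backward.isDefEq.respectTransparency.types false
set_option linter.style.haveILetI false
set_option maxHeartbeats 2000000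

universe u

open CategoryTheory CategoryTheory.Limits MonoidalCategory CartesianMonoidalCategory MonObj AlgebraicGeometry
open scoped TensorProduct
open WithConv Groth.L25.Observable

noncomputable section

namespace Groth.L16.Matsushima

variable {k : Type u} [Field k]

/-- Evaluating the polynomial of a line. -/
theorem eval_aeval_line {d : ℕ} (u w : Fin d → k) (P : MvPolynomial (Fin d) k) (s : k) :
    (MvPolynomial.aeval (fun l => Polynomial.C (u l) + Polynomial.X * Polynomial.C (w l)) P).eval s =
      MvPolynomial.aeval (fun l => u l + s * w l) P := by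
  induction P using MvPolynomial.induction_on with
  | C a => simp
  | add p q hp hq => simp only [map_add, Polynomial.eval_add, hp, hq]
  | mul_X p l hp => simp only [map_mul, Polynomial.eval_mul, hp, MvPolynomial.aeval_X, Polynomial.eval_add,
      Polynomial.eval_C, Polynomial.eval_X]

/-- There is no function on a reductive group translating by an additive function with infinitely many values. -/
theorem false_of_translation [IsAlgClosed k] {G U : Over (Spec (CommRingCat.of k))} [GrpObj G] [GrpObj U]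
    [IsAffine G.left] [Smooth G.hom] (hG : VecGrp.IsReductiveGrp k G) (thmAbiv : AGF.ReductiveQuotSeparates k)
    (iu : U ⟶ G) [IsMonHom iu] (φ : (VecGrp.pt k k ⟶ U) → k) (hφ : (Set.range φ).Infinite)
    (c : Γ(G.left, ⊤))
    (hc : ∀ (g : VecGrp.pt k k ⟶ G) (z : VecGrp.pt k k ⟶ U), val (g * (z ≫ iu)) c = val g c + φ z) :
    False := by
  classical
  obtain ⟨A, _, _, ψ, _, _, _, _⟩ := exists_chart G
  obtain ⟨c₀, rfl⟩ := fn_surjective ψ c
  let φ' : (VecGrp.pt k k ⟶ U) → k := fun z => φ z⁻¹
  have hφ' : (Set.range φ').Infinite := by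
    have : Set.range φ' = Set.range φ := by
      ext x
      constructor
      · rintro ⟨z, rfl⟩; exact ⟨z⁻¹, rfl⟩
      · rintro ⟨z, rfl⟩; exact ⟨z⁻¹, by simp [φ']⟩
    rwa [this]
  let c' : A := HopfAlgebra.antipodeAlgHom k A c₀
  let evp : (VecGrp.pt k k ⟶ G) → A →ₐ[k] k := fun g => (ev ψ g).ofConv
  have hc' : ∀ z g, evp ((z ≫ iu) * g) c' = evp g c' + φ' z := by
    intro z g
    show (ev ψ _).ofConv (HopfAlgebra.antipodeAlgHom k A c₀) = (ev ψ g).ofConv (HopfAlgebra.antipodeAlgHom k A c₀) + _
    rw [← ev_inv, ← ev_inv, _root_.mul_inv_rev, ← GrpObj.inv_comp, ← val_fn, ← val_fn, hc]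
  obtain ⟨z₀, hz₀⟩ : ∃ z, φ' z ≠ 0 := by
    by_contra h
    push Not at h
    exact hφ' ((Set.finite_singleton (0 : k)).subset (by rintro _ ⟨z, rfl⟩; exact h z))
  -- the translated functions
  let α : A →ₗ[k] k := (φ' z₀)⁻¹ • ((evp (z₀ ≫ iu)).toLinearMap - (evp 1).toLinearMap)
  let S : Submodule k A :=
    { carrier := {f | ∀ z g, evp ((z ≫ iu) * g) f = evp g f + α f * φ' z}
      add_mem' := fun {f f'} hf hf' z g => by simp only [map_add, hf z g, hf' z g]; ring
      zero_mem' := fun z g => by simp
      smul_mem' := fun r f hf z g => by simp only [map_smul, smul_eq_mul, hf z g]; ring }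
  let T : Set A := Set.range fun g : VecGrp.pt k k ⟶ G => Rt (evp g) c'
  have hR : ∀ y g f, evp y (Rt (evp g) f) = evp (y * g) f := fun y g f => by
    show (ev ψ y).ofConv (Rt (ev ψ g).ofConv f) = _
    rw [apply_Rt, ← ev_mul]
  have hαT : ∀ g, α (Rt (evp g) c') = 1 := by
    intro g
    show (φ' z₀)⁻¹ • (evp (z₀ ≫ iu) (Rt (evp g) c') - evp 1 (Rt (evp g) c')) = 1
    rw [hR, hR, hc', _root_.one_mul, add_sub_cancel_left, smul_eq_mul, inv_mul_cancel₀ hz₀]
  let W : Submodule k A := Submodule.span k T
  have hWS : W ≤ S := Submodule.span_le.2 (by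
    rintro _ ⟨g, rfl⟩ z x
    rw [hR, hR, hαT, _root_.one_mul, _root_.mul_assoc, hc'])
  haveI : Module.Finite k W := by
    obtain ⟨U₀, hU₀, hmem⟩ := exists_finite_rightTranslates (k := k) c'
    haveI : FiniteDimensional k U₀ := hU₀
    exact Submodule.finiteDimensional_of_le (Submodule.span_le.2 (by rintro _ ⟨g, rfl⟩; exact hmem _) : W ≤ U₀)
  obtain ⟨m, hm, hmpt⟩ := exists_regular ψ (𝟙 G)
  have hact : ∀ (g : VecGrp.pt k k ⟶ G) (a : A), ptAct m g a = Rt (evp g) a := fun g a => by
    have h := congrArg (TensorProduct.lid k A) (ptAct_spec m g a)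
    rw [hmpt, Category.comp_id, TensorProduct.lid_tmul, TensorProduct.lid_tmul, one_smul, one_smul] at h
    exact h.symm
  have hWinv : ∀ g, ∀ f ∈ W, ptAct m g f ∈ W := by
    intro g f hf
    induction hf using Submodule.span_induction with
    | mem f hf =>
      obtain ⟨x, rfl⟩ := hf
      refine Submodule.subset_span ⟨g * x, ?_⟩
      refine eq_of_forall_ev ψ fun y => ?_
      rw [hact]
      show evp y (Rt (evp (g * x)) c') = evp y (Rt (evp g) (Rt (evp x) c'))
      rw [hR, hR, hR, _root_.mul_assoc]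
    | zero => simp
    | add f f' _ _ h h' => rw [map_add]; exact add_mem h h'
    | smul r f _ h => rw [map_smul]; exact W.smul_mem r h
  obtain ⟨mW, hmW⟩ := exists_restrict m W (isStable_of_pts m W hWinv)
  have hactW : ∀ (g : VecGrp.pt k k ⟶ G) (f : W), ((ptAct mW g f : W) : A) = Rt (evp g) (f : A) := by
    intro g f
    have h := hmW k g ((1 : k) ⊗ₜ[k] f)
    rw [ptAct_spec, LinearMap.baseChange_tmul, LinearMap.baseChange_tmul, Submodule.subtype_apply,
      Submodule.subtype_apply, ptAct_spec, hact] at h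
    simpa using congrArg (TensorProduct.lid k A) h
  let b := Module.finBasis k W
  obtain ⟨ρ, hρ, hρlin⟩ := exists_polyAct b mW
  let cW : W := ⟨c', by
    refine Submodule.subset_span ⟨1, eq_of_forall_ev ψ fun y => ?_⟩
    show evp y (Rt (evp 1) c') = _
    rw [hR, _root_.mul_one]⟩
  have hαc : α c' = 1 := by
    have h := hαT 1
    rwa [show Rt (evp 1) c' = c' from eq_of_forall_ev ψ fun y => by
      show evp y (Rt (evp 1) c') = _
      rw [hR, _root_.mul_one]] at h
  -- points of the space of linear forms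
  let Θ : (VecGrp.pt k k ⟶ G) → k → k → MvPolynomial (Fin (Module.finrank k W)) k →ₐ[k] k := fun y t s =>
    MvPolynomial.aeval fun l => t * evp y (b l : A) + s * α (b l : A)
  have hΘlin : ∀ y t s (f : W), Θ y t s (linPoly b f) = t * evp y (f : A) + s * α (f : A) := by
    intro y t s f
    have e : (Θ y t s).toLinearMap ∘ₗ linPoly b =
        t • ((evp y).toLinearMap ∘ₗ W.subtype) + s • (α ∘ₗ W.subtype) :=
      b.ext fun l => by simp [Θ, linPoly]
    exact LinearMap.congr_fun e f
  have hαinv : ∀ g (f : W), α (Rt (evp g) (f : A)) = α (f : A) := by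
    intro g f
    have h1 := hWS f.2 z₀ g
    show (φ' z₀)⁻¹ • (evp (z₀ ≫ iu) (Rt (evp g) (f : A)) - evp 1 (Rt (evp g) (f : A))) = _
    rw [hR, hR, _root_.one_mul, h1, add_sub_cancel_left, smul_eq_mul, mul_comm (α _), inv_mul_cancel_left₀ hz₀]
  have hΘact : ∀ g y t s P, Θ y t s (ptAct ρ g P) = Θ (y * g) t s P := by
    intro g y t s P
    induction P using MvPolynomial.induction_on with
    | C a =>
      have h1 : ptAct ρ g (1 : MvPolynomial (Fin (Module.finrank k W)) k) = 1 := by
        have h := ptAct_spec ρ g (1 : MvPolynomial (Fin (Module.finrank k W)) k)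
        rw [← Algebra.TensorProduct.one_def, (hρ k g).2, Algebra.TensorProduct.one_def] at h
        simpa using (congrArg (TensorProduct.lid k _) h).symm
      rw [show MvPolynomial.C a = a • (1 : MvPolynomial (Fin (Module.finrank k W)) k) from by
        rw [MvPolynomial.smul_eq_C_mul, _root_.mul_one], map_smul, h1, map_smul, map_smul, map_one, map_one]
    | add p q hp hq => simp only [map_add, hp, hq]
    | mul_X p l hp =>
      rw [ptAct_map_mul ρ hρ, map_mul, map_mul, hp]
      congr 1
      rw [show (MvPolynomial.X l : MvPolynomial (Fin (Module.finrank k W)) k) = linPoly b (b l) by simp [linPoly],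
        hρlin, hΘlin, hΘlin, hactW, hR, hαinv]
  let I : k → Ideal (MvPolynomial (Fin (Module.finrank k W)) k) := fun s => RingHom.ker (Θ 1 0 s).toRingHom
  have hI : ∀ s, ρ.IsStable (𝟙 G) ((I s).restrictScalars k) := fun s => by
    refine isStable_of_pts ρ _ fun g P hP => ?_
    show Θ 1 0 s (ptAct ρ g P) = 0
    rw [hΘact, _root_.one_mul]
    have : Θ g 0 s = Θ 1 0 s := by simp [Θ]
    rw [this]
    exact hP
  have hsup : I 0 ⊔ I 1 = ⊤ := by
    rw [Ideal.eq_top_iff_one, Submodule.mem_sup]
    refine ⟨linPoly b cW, ?_, 1 - linPoly b cW, ?_, add_sub_cancel _ _⟩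
    · show Θ 1 0 0 (linPoly b cW) = 0
      rw [hΘlin]; simp
    · show Θ 1 0 1 (1 - linPoly b cW) = 0
      rw [map_sub, map_one, hΘlin]; simp [cW, hαc]
  haveI : Algebra.FiniteType k (MvPolynomial (Fin (Module.finrank k W)) k) := inferInstance
  have h := thmAbiv G hG (MvPolynomial (Fin (Module.finrank k W)) k) ρ hρ inferInstance (I 0) (I 1)
    (RingHom.ker_isPrime _).isRadical (RingHom.ker_isPrime _).isRadical (hI 0) (hI 1) hsup
  obtain ⟨P, hP0, Q, hQ1, hPQ⟩ := Submodule.mem_sup.1 ((Ideal.eq_top_iff_one _).1 h)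
  have e0 : Θ 1 0 0 P.1 = 0 := hP0
  have e1 : Θ 1 0 1 P.1 = 1 := by
    have h1 : Θ 1 0 1 P.1 + Θ 1 0 1 Q.1 = 1 := by
      rw [← map_add]
      exact (congrArg (Θ 1 0 1) (congrArg Subtype.val hPQ)).trans (map_one _)
    rwa [show Θ 1 0 1 Q.1 = 0 from hQ1, _root_.add_zero] at h1
  have hinv : ∀ g y t s, Θ (y * g) t s P.1 = Θ y t s P.1 := by
    intro g y t s
    rw [← hΘact]
    have hfix := P.2 k g
    rw [Category.comp_id, ptAct_spec] at hfix
    exact congrArg (Θ y t s) (by simpa using congrArg (TensorProduct.lid k _) hfix)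
  have hline : ∀ z t, Θ 1 t (t * φ' z) P.1 = Θ 1 t 0 P.1 := by
    intro z t
    have e : Θ (z ≫ iu) t 0 = Θ 1 t (t * φ' z) := by
      refine MvPolynomial.algHom_ext fun l => ?_
      simp only [Θ, MvPolynomial.aeval_X]
      have := hWS (b l).2 z 1
      rw [_root_.mul_one] at this
      rw [this]; ring
    rw [← e, ← _root_.one_mul (z ≫ iu), hinv]
  have hall : ∀ t : k, t ≠ 0 → Θ 1 t 1 P.1 = Θ 1 t 0 P.1 := by
    intro t ht
    let q := MvPolynomial.aeval (fun l => Polynomial.C (t * evp 1 (b l : A)) + Polynomial.X * Polynomial.C (α (b l : A))) P.1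
      - Polynomial.C (Θ 1 t 0 P.1)
    have hq : ∀ s, q.eval s = Θ 1 t s P.1 - Θ 1 t 0 P.1 := fun s => by
      simp only [q, Polynomial.eval_sub, Polynomial.eval_C, eval_aeval_line, Θ]
    have h0 : q = 0 := Polynomial.eq_zero_of_infinite_isRoot q
      (Set.Infinite.mono (fun s hs => by
        obtain ⟨_, ⟨z, rfl⟩, rfl⟩ := hs
        show q.eval _ = 0
        rw [hq, hline, sub_self]) (hφ'.image (f := fun x => t * x) (fun x _ y _ e => mul_left_cancel₀ ht e)))
    have := hq 1
    rw [h0, Polynomial.eval_zero] at this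
    exact sub_eq_zero.1 this.symm
  let r := MvPolynomial.aeval (fun l => Polynomial.C (α (b l : A)) + Polynomial.X * Polynomial.C (evp 1 (b l : A))) P.1
    - MvPolynomial.aeval (fun l => Polynomial.C 0 + Polynomial.X * Polynomial.C (evp 1 (b l : A))) P.1
  have hr : ∀ t, r.eval t = Θ 1 t 1 P.1 - Θ 1 t 0 P.1 := fun t => by
    simp only [r, Polynomial.eval_sub, eval_aeval_line, Θ]
    congr 2 <;> (congr 1; ext l; ring)
  have hr0 : r = 0 := Polynomial.eq_zero_of_infinite_isRoot r
    ((Set.finite_singleton (0 : k)).infinite_compl.mono fun t ht => by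
      show r.eval t = 0
      rw [hr, hall t ht, sub_self])
  have := hr 0
  rw [hr0, Polynomial.eval_zero, e1, e0, sub_zero] at this
  exact one_ne_zero this.symm

end Groth.L16.Matsushima
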