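import Groth.Agent.L16.Matsushima.Cocycle
import Groth.Agent.L16.Matsushima.Separate
import Groth.Agent.L16.RadQuot.Main
import Groth.Agent.L25.Observable.GL

/-!
# An affine homogeneous space of a reductive group has reductive stabilisers
-/

set_option autoImplicit false
set_option backward.isDefEq.respectTransparency.types false
set_option linter.style.haveILetI false
set_option linter.unusedSectionVars false
set_option maxHeartbeats 2000000

universe u

open CategoryTheory CategoryTheory.Limits MonoidalCategory CartesianMonoidalCategory MonObj GrpObj AlgebraicGeometry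
open scoped TensorProduct
open WithConv Groth.L25.Observable Groth.L14.Luna

noncomputable section

namespace Groth.L16.Matsushima

variable {k : Type u} [Field k]

local notation "SK" => Spec (CommRingCat.of k)

/-- The quotient of an affine smooth group by a closed normal subgroup. -/
theorem exists_affine_quotient {G N : Over SK} [GrpObj G] [GrpObj N] [IsAffine G.left] [Smooth G.hom]
    (n : N ⟶ G) [IsMonHom n] [IsClosedImmersion n.left] (hn : AlgGrp.IsNormalHom n) :
    ∃ (Q : Over SK) (_ : GrpObj Q) (q : G ⟶ Q), IsMonHom q ∧ IsAffine Q.left ∧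
      Surjective q.left ∧ Flat q.left ∧ AlgGrp.IsKernel n q := by
  haveI : LocallyOfFiniteType G.hom := inferInstance
  haveI : QuasiCompact G.hom := quasiCompact_of_compactSpace _
  haveI : Mono n := Over.mono_of_mono_left n
  haveI : LocallyOfFiniteType N.hom := by rw [← Over.w n]; infer_instance
  haveI : QuasiCompact N.hom := by rw [← Over.w n]; infer_instance
  obtain ⟨Y, p, _, _, _, sqp⟩ := Groth.L08.GQuot.exists_quotient_field n
  obtain ⟨Q, q, _, _, _, sqq, hlft, -, -, -, -⟩ := Groth.L08.GQuot.exists_struct p sqp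
  obtain ⟨gQ, hq, hker⟩ := Groth.L08.GQuot.exists_grp hn q sqq
  haveI := hlft inferInstance
  exact ⟨Q, gQ, q, hq, Groth.L08.NormalQuot.isAffine_of_surjective_hom q, inferInstance, inferInstance, hker⟩

/-- A quotient map is a torsor under its kernel. -/
theorem isPullback_of_isKernel {G N Q : Over SK} [GrpObj G] [GrpObj N] [GrpObj Q] (n : N ⟶ G) [IsMonHom n] [Mono n]
    (q : G ⟶ Q) [IsMonHom q] (h : AlgGrp.IsKernel n q) : IsPullback (fst G N) ((G ◁ n) ≫ μ[G]) q q := by
  have hmul : ∀ {T : Over SK} (z : T ⟶ G ⊗ N),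
      z ≫ (G ◁ n) ≫ μ[G] = (z ≫ fst G N) * ((z ≫ snd G N) ≫ n) := fun z => by
    rw [Hom.mul_def, ← Category.assoc]; congr 1; ext <;> simp
  have hnq : n ≫ q = 1 := by rw [h.w, Hom.one_def]
  have hw : fst G N ≫ q = ((G ◁ n) ≫ μ[G]) ≫ q := by
    have e := hmul (𝟙 (G ⊗ N))
    rw [Category.id_comp, Category.id_comp, Category.id_comp] at e
    rw [e, MonObj.mul_comp, Category.assoc, hnq, MonObj.comp_one, _root_.mul_one]
  have key : ∀ s : PullbackCone q q, ∃ f : s.pt ⟶ N, f ≫ n = s.fst⁻¹ * s.snd := fun s => by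
    obtain ⟨f, hf, -⟩ := h.exists_lift (s.fst⁻¹ * s.snd) (toUnit _) (by
      rw [MonObj.mul_comp, GrpObj.inv_comp, s.condition, inv_mul_cancel, Hom.one_def])
    exact ⟨f, hf⟩
  choose f hf using key
  refine IsPullback.of_isLimit' ⟨hw⟩ (PullbackCone.IsLimit.mk hw
    (fun s => CartesianMonoidalCategory.lift s.fst (f s)) (fun s => lift_fst _ _)
    (fun s => by rw [hmul, lift_fst, lift_snd, hf, mul_inv_cancel_left])
    (fun s m h1 h2 => CartesianMonoidalCategory.hom_ext _ _ (by rw [lift_fst]; exact h1) ?_))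
  rw [lift_snd, ← cancel_mono n, hf, ← h2, hmul, h1, inv_mul_cancel_left]

variable [IsAlgClosed k]

/-- A group without non-trivial unipotent radical candidates: the additive function. -/
theorem exists_additive {U : Over SK} [GrpObj U] [IsAffine U.left] [Smooth U.hom] [ConnectedSpace U.left]
    (hU : Red.HasNoSubtorus k U) (x₁ : VecGrp.pt k k ⟶ U) (hx₁ : x₁ ≠ 1) :
    ∃ φ : Γ(U.left, ⊤), (∀ x y : VecGrp.pt k k ⟶ U, val (x * y) φ = val x φ + val y φ) ∧
      (Set.range fun x : VecGrp.pt k k ⟶ U => val x φ).Infinite := by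
  classical
  obtain ⟨A, _, _, ψ, _, _, _, _⟩ := exists_chart U
  haveI : IsDomain A := isDomain ψ
  obtain ⟨n, hn⟩ := isSolvableGrp_of_noSubtorus U hU
  haveI : Group.IsSolvable (VecGrp.pt k k ⟶ U) := ⟨⟨n, hn _⟩⟩
  obtain ⟨m, -, hmpt⟩ := exists_regular ψ (𝟙 U)
  have hact : ∀ (g : VecGrp.pt k k ⟶ U) (a : A), ptAct m (g ≫ 𝟙 U) a = Rt (ev ψ g).ofConv a := fun g a => by
    rw [Category.comp_id]
    have h := congrArg (TensorProduct.lid k A) (ptAct_spec m g a)
    rw [hmpt, Category.comp_id, TensorProduct.lid_tmul, TensorProduct.lid_tmul, one_smul, one_smul] at h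
    exact h.symm
  let M : Submodule k A := Submodule.span k {1}
  have hne : ¬ (⊤ : Submodule k A) ≤ M := by
    intro hle
    refine hx₁ (ev_injective ψ (congrArg toConv (AlgHom.ext fun a => ?_)))
    obtain ⟨r, rfl⟩ := Submodule.mem_span_singleton.1 (hle (Submodule.mem_top (x := a)))
    rw [map_smul, map_smul, map_one, map_one]
  obtain ⟨⟨v, -, hvM, hv⟩, -⟩ := exists_fixed_mod_pts hU (𝟙 U) m M ⊤ (fun g a ha => by
      obtain ⟨r, rfl⟩ := Submodule.mem_span_singleton.1 ha
      rw [hact, map_smul, map_one]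
      exact Submodule.smul_mem _ _ (Submodule.subset_span rfl))
    (fun _ _ _ => Submodule.mem_top) hne
  let e : A := v - algebraMap k A ((ev ψ (1 : VecGrp.pt k k ⟶ U)).ofConv v)
  have hadd : ∀ x y : VecGrp.pt k k ⟶ U, (ev ψ (x * y)).ofConv e = (ev ψ x).ofConv e + (ev ψ y).ofConv e := by
    intro x y
    obtain ⟨r, hr⟩ := Submodule.mem_span_singleton.1 (hv y)
    rw [hact] at hr
    have h : ∀ z : VecGrp.pt k k ⟶ U, (ev ψ (z * y)).ofConv v - (ev ψ z).ofConv v = r := fun z => by
      rw [ev_mul, ← apply_Rt, ← map_sub, ← hr, map_smul, map_one, smul_eq_mul, _root_.mul_one]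
    simp only [e, map_sub, AlgHom.commutes, Algebra.algebraMap_self, RingHom.id_apply]
    have h1 := h 1
    rw [_root_.one_mul] at h1
    linear_combination h x - h1
  refine ⟨fn ψ e, fun x y => by rw [val_fn, val_fn, val_fn, hadd], fun hfin => ?_⟩
  let s := hfin.toFinset
  have hprod : ∏ r ∈ s, (e - algebraMap k A r) = 0 := eq_of_forall_ev ψ fun x => by
    rw [map_prod, map_zero]
    exact Finset.prod_eq_zero (Set.Finite.mem_toFinset _ |>.2 ⟨x, rfl⟩) (by
      rw [map_sub, AlgHom.commutes]; simp [val_fn])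
  obtain ⟨r, -, hr⟩ := Finset.prod_eq_zero_iff.1 hprod
  refine hvM (Submodule.mem_span_singleton.2 ⟨r + (ev ψ (1 : VecGrp.pt k k ⟶ U)).ofConv v, ?_⟩)
  rw [sub_eq_zero] at hr
  rw [add_smul, ← Algebra.algebraMap_eq_smul_one, ← Algebra.algebraMap_eq_smul_one, ← hr]
  simp [e]

/-- An affine homogeneous space of a reductive group has reductive stabilisers. -/
theorem isReductiveGrp_of_isAffine {G H X : Over SK} [GrpObj G] [GrpObj H] [IsAffine G.left] [Smooth G.hom]
    [Smooth H.hom] (i : H ⟶ G) [IsMonHom i] [IsClosedImmersion i.left] (hG : VecGrp.IsReductiveGrp k G)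
    (thmAbiv : AGF.ReductiveQuotSeparates k) (π : G ⟶ X) [IsAffine X.left] [Flat π.left] [Surjective π.left]
    (sq : IsPullback (fst G H) ((G ◁ i) ≫ μ[G]) π π) : VecGrp.IsReductiveGrp k H := by
  classical
  haveI : IsAffine H.left := isAffine_of_isAffineHom i.left
  haveI : QuasiCompact H.hom := quasiCompact_of_compactSpace _
  obtain ⟨K, gK, j, hj⟩ := Groth.L08.Chev.exists_idComp H
  haveI := hj.hom; haveI := hj.closedImm; haveI := hj.connectedSpace; haveI := hj.smooth; haveI := hj.openImm
  haveI : Mono j := Over.mono_of_mono_left j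
  haveI : IsAffine K.left := isAffine_of_isAffineHom j.left
  obtain ⟨U, gU, u, hU⟩ := Groth.L25.RedField.exists_unipotentRadical K
  obtain ⟨hum, huc, hun, hus, hucon, huns⟩ := unipotentRadical_data hU
  haveI := hum; haveI := huc; haveI := hus; haveI := hucon
  haveI : Mono u := Over.mono_of_mono_left u
  haveI : IsAffine U.left := isAffine_of_isAffineHom u.left
  haveI : QuasiCompact U.hom := quasiCompact_of_compactSpace _
  suffices htriv : u = 1 by
    refine ⟨inferInstance, inferInstance, K, gK, j, hj.hom, hj.openImm, inferInstance, inferInstance, inferInstance,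
      fun N _ n _ hnc hNs hNc hnn hns => ?_⟩
    haveI := hnc; haveI := hNs
    haveI : IsAffine N.left := isAffine_of_isAffineHom n.left
    haveI : QuasiCompact N.hom := quasiCompact_of_compactSpace _
    obtain ⟨f, hf⟩ := exists_factor_unipotentRadical hU n hnn hNc hns
    haveI : Mono n := Over.mono_of_mono_left n
    refine isTrivialGrp_of_id_eq_one ?_
    rw [← cancel_mono n, Category.id_comp, MonObj.one_comp, ← hf, htriv, MonObj.comp_one]
  by_contra hne
  obtain ⟨x₁, hx₁⟩ : ∃ x : VecGrp.pt k k ⟶ U, x ≠ 1 := by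
    by_contra h
    push Not at h
    exact hne (hom_ext_pts fun x => by rw [h x, MonObj.one_comp, MonObj.comp_one])
  obtain ⟨φ, hadd, hinf⟩ := exists_additive huns x₁ hx₁
  -- the radical is normal in `H`
  haveI : IsClosedImmersion (u ≫ j).left := inferInstanceAs (IsClosedImmersion (u.left ≫ j.left))
  have hnH : AlgGrp.IsNormalHom (u ≫ j) := by
    refine Groth.L16.RadQuot.isNormalHom_of_points (u ≫ j) fun g => ?_
    haveI := Groth.L08.Borel.isMonHom_conjBy g j
    haveI := Groth.L08.Borel.isMonHom_conjBy g⁻¹ j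
    obtain ⟨c, hc⟩ := hj.exists_lift_hom (AGF.conjBy g j)
    obtain ⟨c', hc'⟩ := hj.exists_lift_hom (AGF.conjBy g⁻¹ j)
    haveI : IsMonHom c := Groth.L08.Borel.isMonHom_of_comp_mono c j _ hc
    have h1 : c ≫ c' = 𝟙 K := by
      rw [← cancel_mono j, Category.assoc, hc', Groth.L08.Borel.comp_conjBy, hc, Groth.L08.Borel.conjBy_conjBy,
        inv_mul_cancel, Groth.L08.Borel.conjBy_one, Category.id_comp]
    have h2 : c' ≫ c = 𝟙 K := by
      rw [← cancel_mono j, Category.assoc, hc, Groth.L08.Borel.comp_conjBy, hc', Groth.L08.Borel.conjBy_conjBy,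
        mul_inv_cancel, Groth.L08.Borel.conjBy_one, Category.id_comp]
    haveI : IsIso c := ⟨c', h1, h2⟩
    haveI : IsIso c.left := inferInstanceAs (IsIso ((Over.forget _).map c))
    haveI : IsClosedImmersion (u ≫ c).left := inferInstanceAs (IsClosedImmersion (u.left ≫ c.left))
    obtain ⟨f, hf⟩ := exists_factor_unipotentRadical hU (u ≫ c) (fun Y y z => by
      obtain ⟨z', hz'⟩ := hun Y (y ≫ c') z
      refine ⟨z', ?_⟩
      have e := congrArg (fun t => t ≫ c) hz'
      simp only [MonObj.mul_comp, GrpObj.inv_comp, Category.assoc, h2, Category.comp_id] at e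
      exact e) hucon huns
    exact ⟨f, by rw [reassoc_of% hf, hc, Groth.L08.Borel.comp_conjBy]⟩
  haveI : Mono (u ≫ j) := Over.mono_of_mono_left _
  obtain ⟨Q, gQ, q, hq, hQa, hqs, hqf, hker⟩ := exists_affine_quotient (u ≫ j) hnH
  haveI := hq; haveI := hQa; haveI := hqs; haveI := hqf
  haveI : IsClosedImmersion (𝟙 U : U ⟶ U).left := inferInstanceAs (IsClosedImmersion (𝟙 U.left))
  obtain ⟨φ', hφ'⟩ := exists_extend q (u ≫ j) (𝟙 U) (isPullback_of_isKernel (u ≫ j) q hker) φ φ
    (fun h z => by rw [Category.comp_id]; exact hadd h z)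
  obtain ⟨c, hc⟩ := exists_extend π i (u ≫ j) sq φ φ' fun h z => by
    have := hφ' h z
    rwa [Category.id_comp] at this
  exact false_of_translation hG thmAbiv ((u ≫ j) ≫ i) (fun z => val z φ) hinf c hc

end Groth.L16.Matsushima
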