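import Groth.Agent.L25.Observable.AlgAction
import Groth.Agent.L25.Observable.UnipFixed
import Mathlib.Algebra.MvPolynomial.Basic
import Mathlib.RingTheory.TensorProduct.MvPolynomial

/-!
# Polynomial actions and stability on rational points
-/

set_option autoImplicit false
set_option backward.isDefEq.respectTransparency.types false
set_option maxHeartbeats 1000000

universe u

open CategoryTheory MonoidalCategory CartesianMonoidalCategory MonObj AlgebraicGeometry
open scoped TensorProduct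
open Groth.L25.Observable

noncomputable section

namespace Groth.L16.Matsushima

variable {k : Type u} [Field k] {G : Over (Spec (CommRingCat.of k))} [GrpObj G]

/-- A subspace stable under the rational points of a smooth affine group is stable. -/
theorem isStable_of_pts [IsAlgClosed k] [IsAffine G.left] [Smooth G.hom] {V : Type u} [AddCommGroup V] [Module k V]
    (m : VecGrp.GMod G V) (S : Submodule k V) (hS : ∀ (g : VecGrp.pt k k ⟶ G), ∀ v ∈ S, ptAct m g v ∈ S) :
    m.IsStable (𝟙 G) S := by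
  intro B _ _ h x hx
  obtain ⟨alg, gen, _, hgen, hfac⟩ := exists_gen G
  letI := alg
  let φ := S.mkQ
  have key : ∀ {C : Type u} [CommRing C] [Algebra k C] {C' : Type u} [CommRing C'] [Algebra k C'] (f : C →ₐ[k] C')
      (z : C ⊗[k] V), VecGrp.Wmap f (φ.baseChange C z) = φ.baseChange C' (VecGrp.Wmap f z) := by
    intro C _ _ C' _ _ f z
    induction z using TensorProduct.induction_on with
    | zero => simp
    | add p q hp hq => simp only [map_add, hp, hq]
    | tmul c a => simp [VecGrp.Wmap]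
  have h0 : φ.baseChange Γ(G.left, ⊤) (m.ρ _ gen ((1 : Γ(G.left, ⊤)) ⊗ₜ[k] x)) = 0 := by
    let b := Module.Free.chooseBasis k (V ⧸ S)
    refine (b.baseChange Γ(G.left, ⊤)).repr.injective (Finsupp.ext fun j => hgen _ _ ?_)
    congr 1
    refine eq_of_forall_val fun γ => ?_
    obtain ⟨f, hf, hval⟩ := hfac k γ
    rw [← hval, ← hval]
    have key2 : ∀ z : Γ(G.left, ⊤) ⊗[k] (V ⧸ S), f ((b.baseChange Γ(G.left, ⊤)).repr z j) =
        (b.baseChange k).repr (VecGrp.Wmap f z) j := by
      intro z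
      induction z using TensorProduct.induction_on with
      | zero => simp
      | add p q hp hq => simp only [map_add, Finsupp.add_apply, hp, hq]
      | tmul c w => simp [VecGrp.Wmap]
    have h1 : φ.baseChange k (m.ρ k γ ((1 : k) ⊗ₜ[k] x)) = 0 := by
      rw [ptAct_spec, LinearMap.baseChange_tmul]
      simp [φ, (Submodule.Quotient.mk_eq_zero S).2 (hS γ x hx)]
    rw [key2, key2, key, m.naturality, hf,
      show VecGrp.Wmap f ((1 : Γ(G.left, ⊤)) ⊗ₜ[k] x) = (1 : k) ⊗ₜ[k] x by simp [VecGrp.Wmap], h1]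
    simp
  obtain ⟨f, hf, -⟩ := hfac B h
  have h1 := congrArg (VecGrp.Wmap f) h0
  rw [key, m.naturality, hf, map_zero,
    show VecGrp.Wmap f ((1 : Γ(G.left, ⊤)) ⊗ₜ[k] x) = (1 : B) ⊗ₜ[k] x by simp [VecGrp.Wmap]] at h1
  rw [Category.comp_id]
  generalize m.ρ B h ((1 : B) ⊗ₜ[k] x) = z at h1
  have hex : Function.Exact S.subtype φ := LinearMap.exact_subtype_mkQ S
  obtain ⟨y, hy⟩ := (Module.Flat.lTensor_exact B hex z).1 h1
  rw [← hy]
  clear hy h1
  induction y using TensorProduct.induction_on with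
  | zero => simp
  | add p q hp hq => rw [map_add]; exact add_mem hp hq
  | tmul b w =>
    rw [LinearMap.lTensor_tmul]
    exact Submodule.tmul_mem_baseChange_of_mem b w.2

/-- The linear functions of a basis. -/
def linPoly {E : Type u} [AddCommGroup E] [Module k E] {d : ℕ} (b : Module.Basis (Fin d) k E) :
    E →ₗ[k] MvPolynomial (Fin d) k := b.constr k MvPolynomial.X

/-- The action on polynomial functions induced by a module. -/
theorem exists_polyAct [IsAlgClosed k] {E : Type u} [AddCommGroup E] [Module k E] {d : ℕ} (b : Module.Basis (Fin d) k E)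
    (m : VecGrp.GMod G E) :
    ∃ ρ : VecGrp.GMod G (MvPolynomial (Fin d) k), ρ.IsMult ∧
      ∀ (g : VecGrp.pt k k ⟶ G) (e : E), ptAct ρ g (linPoly b e) = linPoly b (ptAct m g e) := by
  let Φ : ∀ (B : Type u) [CommRing B] [Algebra k B] (g : VecGrp.pt k B ⟶ G), B ⊗[k] (MvPolynomial (Fin d) k) →ₐ[B] B ⊗[k] (MvPolynomial (Fin d) k) :=
    fun B _ _ g => Algebra.TensorProduct.lift (Algebra.ofId B _)
      (MvPolynomial.aeval fun l => (linPoly b).baseChange B (m.ρ B g ((1 : B) ⊗ₜ[k] b l)))
      fun _ _ => Commute.all _ _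
  have hX : ∀ (B : Type u) [CommRing B] [Algebra k B] (g : VecGrp.pt k B ⟶ G) (l : Fin d),
      Φ B g ((1 : B) ⊗ₜ[k] MvPolynomial.X l) = (linPoly b).baseChange B (m.ρ B g ((1 : B) ⊗ₜ[k] b l)) :=
    fun B _ _ g l => by simp [Φ, ← Algebra.TensorProduct.one_def]
  have hlin : ∀ (B : Type u) [CommRing B] [Algebra k B] (g : VecGrp.pt k B ⟶ G) (z : B ⊗[k] E),
      Φ B g ((linPoly b).baseChange B z) = (linPoly b).baseChange B (m.ρ B g z) := by
    intro B _ _ g z
    have e : (Φ B g).toLinearMap ∘ₗ (linPoly b).baseChange B =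
        (linPoly b).baseChange B ∘ₗ (m.ρ B g).toLinearMap :=
      (b.baseChange B).ext fun l => by simp [linPoly, hX B g l]
    exact LinearMap.congr_fun e z
  have hext : ∀ (B : Type u) [CommRing B] [Algebra k B] (Θ Θ' : B ⊗[k] (MvPolynomial (Fin d) k) →ₐ[B] B ⊗[k] (MvPolynomial (Fin d) k)),
      (∀ z, Θ ((linPoly b).baseChange B z) = Θ' ((linPoly b).baseChange B z)) → Θ = Θ' := fun B _ _ Θ Θ' h =>
    Algebra.TensorProduct.ext (Subsingleton.elim _ _) (MvPolynomial.algHom_ext fun l => by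
      simpa [linPoly] using h ((1 : B) ⊗ₜ b l))
  have hmul : ∀ (B : Type u) [CommRing B] [Algebra k B] (g g' : VecGrp.pt k B ⟶ G),
      Φ B (g * g') = (Φ B g).comp (Φ B g') := fun B _ _ g g' => hext B _ _ fun z => by
    rw [AlgHom.comp_apply, hlin, hlin, hlin, map_mul]; rfl
  have hone : ∀ (B : Type u) [CommRing B] [Algebra k B], Φ B 1 = AlgHom.id B _ := fun B _ _ => hext B _ _ fun z => by
    rw [hlin, map_one]; rfl
  let act : ∀ (B : Type u) [CommRing B] [Algebra k B],
      (VecGrp.pt k B ⟶ G) →* ((B ⊗[k] (MvPolynomial (Fin d) k)) ≃ₗ[B] (B ⊗[k] (MvPolynomial (Fin d) k))) := fun B _ _ =>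
    MonoidHom.mk' (fun g => LinearEquiv.ofLinearMap (Φ B g).toLinearMap (Φ B g⁻¹).toLinearMap
      (LinearMap.ext fun x => by
        show (Φ B g) (Φ B g⁻¹ x) = x
        rw [← AlgHom.comp_apply, ← hmul, mul_inv_cancel, hone]; rfl)
      (LinearMap.ext fun x => by
        show (Φ B g⁻¹) (Φ B g x) = x
        rw [← AlgHom.comp_apply, ← hmul, inv_mul_cancel, hone]; rfl))
      fun g g' => LinearEquiv.ext fun x => AlgHom.congr_fun (hmul B g g') x
  have hnat : ∀ {B B' : Type u} [CommRing B] [Algebra k B] [CommRing B'] [Algebra k B'] (φ : B →ₐ[k] B')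
      (g : VecGrp.pt k B ⟶ G) (x : B ⊗[k] (MvPolynomial (Fin d) k)),
      VecGrp.Wmap φ (Φ B g x) = Φ B' (VecGrp.ptMap φ ≫ g) (VecGrp.Wmap φ x) := by
    intro B B' _ _ _ _ φ g x
    let Wm : B ⊗[k] (MvPolynomial (Fin d) k) →ₐ[k] B' ⊗[k] (MvPolynomial (Fin d) k) := Algebra.TensorProduct.map φ (AlgHom.id k _)
    have hWm : ∀ z, VecGrp.Wmap φ z = Wm z := by
      intro z
      induction z using TensorProduct.induction_on with
      | zero => simp
      | add p q hp hq => simp only [map_add, hp, hq]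
      | tmul b w => simp [VecGrp.Wmap, Wm]
    have hL : ∀ z : B ⊗[k] E, Wm ((linPoly b).baseChange B z) = (linPoly b).baseChange B' (VecGrp.Wmap φ z) := by
      intro z
      induction z using TensorProduct.induction_on with
      | zero => simp
      | add p q hp hq => simp only [map_add, hp, hq]
      | tmul b w => simp [VecGrp.Wmap, Wm]
    rw [hWm, hWm]
    have e : Wm.comp ((Φ B g).restrictScalars k) = ((Φ B' (VecGrp.ptMap φ ≫ g)).restrictScalars k).comp Wm := by
      refine Algebra.TensorProduct.ext (AlgHom.ext fun c => ?_) (MvPolynomial.algHom_ext fun l => ?_)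
      · simp [Wm, Φ]
      · show Wm (Φ B g ((1 : B) ⊗ₜ[k] MvPolynomial.X l)) = Φ B' _ (Wm ((1 : B) ⊗ₜ[k] MvPolynomial.X l))
        rw [hX, hL, m.naturality]
        simp [Wm, hX, VecGrp.Wmap]
    exact AlgHom.congr_fun e x
  refine ⟨⟨act, fun {B B'} _ _ _ _ φ g x => hnat φ g x⟩,
    fun B _ _ g => ⟨fun x y => map_mul (Φ B g) x y, map_one (Φ B g)⟩, fun g e => ?_⟩
  have h1 := hlin k g ((1 : k) ⊗ₜ[k] e)
  rw [LinearMap.baseChange_tmul, ptAct_spec, LinearMap.baseChange_tmul] at h1
  exact (congrArg (TensorProduct.lid k (MvPolynomial (Fin d) k)) h1).trans (by simp)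

end Groth.L16.Matsushima
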