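import Groth.Agent.L25.Observable.Transfer
import Groth.Agent.L25.Observable.Semi
import Mathlib.AlgebraicGeometry.Morphisms.Affine
import Mathlib.AlgebraicGeometry.Morphisms.Flat
import Mathlib.RingTheory.Flat.FaithfullyFlat.Algebra
import Mathlib.Algebra.Category.Ring.Constructions

/-!
# Extension of additive functions along affine quotients

If `G → X` is faithfully flat with affine target and `G ×_X G = G × H`, a function on `H` which translates
by an additive function of a subgroup `U ≤ H` extends to a function on `G` with the same translation rule.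
-/

set_option autoImplicit false
set_option backward.isDefEq.respectTransparency.types false
set_option linter.style.haveILetI false
set_option maxHeartbeats 2000000

universe u

open CategoryTheory CategoryTheory.Limits MonoidalCategory CartesianMonoidalCategory MonObj AlgebraicGeometry
open scoped TensorProduct
open WithConv Groth.L25.Observable

noncomputable section

namespace Groth.L16.Matsushima

variable {k : Type u} [Field k]

/-- Elements of a tensor product agreeing under separating families of functionals are equal. -/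
theorem tensor_eq_of_forall {M N : Type u} [AddCommGroup M] [Module k M] [AddCommGroup N] [Module k N] {Z W : Type*}
    (p : Z → M →ₗ[k] k) (q : W → N →ₗ[k] k) (hp : ∀ m m', (∀ z, p z m = p z m') → m = m')
    (hq : ∀ n n', (∀ w, q w n = q w n') → n = n') {y y' : M ⊗[k] N}
    (h : ∀ z w, TensorProduct.lid k k (TensorProduct.map (p z) (q w) y) =
      TensorProduct.lid k k (TensorProduct.map (p z) (q w) y')) : y = y' := by
  classical
  let b := Module.Free.chooseBasis k N
  have h1 : ∀ z w (t : M ⊗[k] N), TensorProduct.lid k k (TensorProduct.map (p z) (q w) t) =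
      q w (TensorProduct.lid k N ((p z).rTensor N t)) := by
    intro z w t
    induction t using TensorProduct.induction_on with
    | zero => simp
    | add s t hs ht => simp only [map_add, hs, ht]
    | tmul m n => simp
  have h2 : ∀ z l (t : M ⊗[k] N), b.coord l (TensorProduct.lid k N ((p z).rTensor N t)) =
      p z (TensorProduct.rid k M ((b.coord l).lTensor M t)) := by
    intro z l t
    induction t using TensorProduct.induction_on with
    | zero => simp
    | add s t hs ht => simp only [map_add, hs, ht]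
    | tmul m n => simp [mul_comm]
  have h3 : ∀ l (t : M ⊗[k] N), TensorProduct.equivFinsuppOfBasisRight b t l =
      TensorProduct.rid k M ((b.coord l).lTensor M t) := by
    intro l t
    induction t using TensorProduct.induction_on with
    | zero => simp
    | add s t hs ht => simp only [map_add, Finsupp.add_apply, hs, ht]
    | tmul m n => simp
  refine (TensorProduct.equivFinsuppOfBasisRight b).injective (Finsupp.ext fun l => ?_)
  rw [h3, h3]
  refine hp _ _ fun z => ?_
  rw [← h2, ← h2]
  exact congrArg _ (hq _ _ fun w => by rw [← h1, ← h1]; exact h z w)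

/-- Extension of a translation rule along an affine quotient. -/
theorem exists_extend [IsAlgClosed k] {G H U X : Over (Spec (CommRingCat.of k))} [GrpObj G] [GrpObj H] [GrpObj U]
    [IsAffine G.left] [Smooth G.hom] [IsAffine H.left] [Smooth H.hom] [IsAffine U.left] [Smooth U.hom] [IsAffine X.left]
    (π : G ⟶ X) [Flat π.left] [Surjective π.left] (i : H ⟶ G) [IsMonHom i] [IsClosedImmersion i.left]
    (v : U ⟶ H) [IsMonHom v] [IsClosedImmersion v.left] (sq : IsPullback (fst G H) ((G ◁ i) ≫ μ[G]) π π)
    (φ : Γ(U.left, ⊤)) (φ' : Γ(H.left, ⊤))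
    (hφ : ∀ (h : VecGrp.pt k k ⟶ H) (z : VecGrp.pt k k ⟶ U), val (h * (z ≫ v)) φ' = val h φ' + val z φ) :
    ∃ c : Γ(G.left, ⊤), ∀ (g : VecGrp.pt k k ⟶ G) (z : VecGrp.pt k k ⟶ U),
      val (g * (z ≫ v ≫ i)) c = val g c + val z φ := by
  classical
  obtain ⟨A, _, _, ψ, _, _, _, _⟩ := exists_chart G
  obtain ⟨B, _, _, ψU, _, _, _, _⟩ := exists_chart U
  haveI : IsClosedImmersion (v ≫ i).left := inferInstanceAs (IsClosedImmersion (v.left ≫ i.left))
  obtain ⟨res, -, hres⟩ := exists_res ψ ψU (v ≫ i)
  obtain ⟨φB, rfl⟩ := fn_surjective ψU φ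
  obtain ⟨algC, genX, -, -, hfacX⟩ := exists_gen X
  let C : Type u := Γ(X.left, ⊤)
  letI : CommRing C := inferInstanceAs (CommRing Γ(X.left, ⊤))
  letI : Algebra k C := algC
  let eA : A ≃+* Γ(G.left, ⊤) := RingEquiv.ofBijective (fnHom ψ) ⟨fn_injective ψ, fn_surjective ψ⟩
  letI algA : Algebra C A := (eA.symm.toRingHom.comp π.left.appTop.hom).toAlgebra
  have hσ : ∀ (g : VecGrp.pt k k ⟶ G) (c : C),
      (ev ψ g).ofConv (algebraMap C A c) = val (g ≫ π) c := fun g c => by
    rw [← val_fn, val_comp]
    exact congrArg (val g) (eA.apply_symm_apply _)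
  haveI : IsScalarTower k C A := IsScalarTower.of_algebraMap_eq fun r => eq_of_forall_ev ψ fun g => by
    obtain ⟨f, -, hf⟩ := hfacX k (g ≫ π)
    rw [AlgHom.commutes, hσ, ← hf, AlgHom.commutes]
  -- faithful flatness
  haveI : Module.FaithfullyFlat C A := by
    letI : Algebra C Γ(G.left, ⊤) := π.left.appTop.hom.toAlgebra
    haveI : Module.FaithfullyFlat C Γ(G.left, ⊤) :=
      (Flat.flat_and_surjective_iff_faithfullyFlat_of_isAffine (f := π.left)).1 ⟨inferInstance, inferInstance⟩
    refine Module.FaithfullyFlat.of_linearEquiv (R := C) (M := Γ(G.left, ⊤)) (LinearEquiv.symm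
      { eA.toAddEquiv.symm with map_smul' := fun c x => ?_ })
    show eA.symm (π.left.appTop.hom c * x) = algebraMap C A c * eA.symm x
    rw [map_mul]
    rfl
  -- the pullback square on global sections
  haveI : IsAffine (G ⊗ H).left := inferInstanceAs (IsAffine (pullback G.hom H.hom))
  haveI : Smooth (G ⊗ H).hom := inferInstanceAs (Smooth (pullback.fst G.hom H.hom ≫ G.hom))
  let act := (G ◁ i) ≫ μ[G]
  have P0 : IsPushout π.left.appTop π.left.appTop (fst G H).left.appTop act.left.appTop :=
    isPushout_appTop_of_isPullback (sq.map (Over.forget _))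
  let eAi : CommRingCat.of A ≅ Γ(G.left, ⊤) := eA.toCommRingCatIso
  have P0' : IsPushout (CommRingCat.ofHom (algebraMap C A)) (CommRingCat.ofHom (algebraMap C A))
      (eAi.hom ≫ (fst G H).left.appTop) (eAi.hom ≫ act.left.appTop) :=
    P0.of_iso (Iso.refl _) eAi.symm eAi.symm (Iso.refl _)
      (CommRingCat.hom_ext (RingHom.ext fun c => rfl)) (CommRingCat.hom_ext (RingHom.ext fun c => rfl))
      (by simp) (by simp)
  let P1 := CommRingCat.isPushout_tensorProduct C A A
  let e := P1.isoIsPushout _ _ P0'
  have hpt : ∀ q : VecGrp.pt k k ⟶ G ⊗ H, q ≫ act = (q ≫ fst G H) * ((q ≫ snd G H) ≫ i) := fun q => by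
    rw [Hom.mul_def, ← Category.assoc]; congr 1; ext <;> simp
  let P : (VecGrp.pt k k ⟶ G ⊗ H) → (A ⊗[C] A) → k := fun q t => val q (e.hom t)
  have hP : ∀ q a b, P q (a ⊗ₜ[C] b) =
      (ev ψ (q ≫ fst G H)).ofConv a * (ev ψ ((q ≫ fst G H) * ((q ≫ snd G H) ≫ i))).ofConv b := by
    intro q a b
    have h1 : e.hom (a ⊗ₜ[C] (1 : A)) = (fst G H).left.appTop (fn ψ a) :=
      congrArg (fun f : CommRingCat.of A ⟶ Γ((G ⊗ H).left, ⊤) => f.hom a) (IsPushout.inl_isoIsPushout_hom _ _ P1 P0')
    have h2 : e.hom ((1 : A) ⊗ₜ[C] b) = act.left.appTop (fn ψ b) := congrArg (fun f : CommRingCat.of A ⟶ Γ((G ⊗ H).left, ⊤) => f.hom b) (IsPushout.inr_isoIsPushout_hom _ _ P1 P0')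
    show val q (e.hom (a ⊗ₜ[C] b)) = _
    rw [show (a ⊗ₜ[C] b) = (a ⊗ₜ[C] (1 : A)) * ((1 : A) ⊗ₜ[C] b) by
      rw [Algebra.TensorProduct.tmul_mul_tmul, _root_.mul_one, _root_.one_mul]]
    rw [show e.hom ((a ⊗ₜ[C] (1 : A)) * ((1 : A) ⊗ₜ[C] b)) = _ from map_mul e.hom.hom _ _, h1, h2, val_mul,
      ← val_comp, ← val_comp, val_fn, val_fn, hpt]
  have hPadd : ∀ q s t, P q (s + t) = P q s + P q t := fun q s t =>
    (congrArg (val q) (map_add e.hom.hom s t)).trans (val_add _ _ _)
  have hP0 : ∀ q, P q 0 = 0 := fun q => by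
    have := hPadd q 0 0
    simpa using this
  let p : (VecGrp.pt k k ⟶ G ⊗ H) → (A ⊗[C] A) →ₗ[k] k := fun q =>
    { toFun := P q
      map_add' := hPadd q
      map_smul' := fun r t => by
        induction t using TensorProduct.induction_on with
        | zero => simp [hP0]
        | add s t hs ht => rw [smul_add, hPadd, hs, ht, hPadd, RingHom.id_apply, smul_add]
        | tmul a b => rw [TensorProduct.smul_tmul', hP, hP, map_smul, RingHom.id_apply, smul_eq_mul, smul_eq_mul,
            _root_.mul_assoc] }
  have hpsep : ∀ m m', (∀ q, p q m = p q m') → m = m' := fun m m' h =>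
    (ConcreteCategory.bijective_of_isIso e.hom).1 (eq_of_forall_val fun q => h q)
  let qU : (VecGrp.pt k k ⟶ U) → B →ₗ[k] k := fun u => (ev ψU u).ofConv.toLinearMap
  let qA : (VecGrp.pt k k ⟶ G) → A →ₗ[k] k := fun g => (ev ψ g).ofConv.toLinearMap
  have hqU : ∀ n n', (∀ u, qU u n = qU u n') → n = n' := fun n n' h => eq_of_forall_ev ψU h
  have hqA : ∀ n n', (∀ g, qA g n = qA g n') → n = n' := fun n n' h => eq_of_forall_ev ψ h
  let E : (VecGrp.pt k k ⟶ G) → (VecGrp.pt k k ⟶ U) → A ⊗[k] B → k := fun g u s =>
    TensorProduct.lid k k (TensorProduct.map (qA g) (qU u) s)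
  have hE : ∀ g u a b, E g u (a ⊗ₜ[k] b) = (ev ψ g).ofConv a * (ev ψU u).ofConv b := fun g u a b => by
    simp [E, qA, qU]
  let d₀ : A → A ⊗[k] B := fun a =>
    Algebra.TensorProduct.map (AlgHom.id k A) res (Coalgebra.comul a) - a ⊗ₜ[k] 1
  have hd₀ : ∀ g u a, E g u (d₀ a) = (ev ψ (g * (u ≫ v ≫ i))).ofConv a - (ev ψ g).ofConv a := by
    intro g u a
    have e1 : ∀ s : A ⊗[k] A, E g u (Algebra.TensorProduct.map (AlgHom.id k A) res s) =
        Algebra.TensorProduct.lift (ev ψ g).ofConv (ev ψ (u ≫ v ≫ i)).ofConv (fun _ _ => Commute.all _ _) s := by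
      intro s
      induction s using TensorProduct.induction_on with
      | zero => simp [E]
      | add s t hs ht =>
        simp only [E, map_add] at hs ht ⊢
        rw [hs, ht]
      | tmul a b => simp [E, qA, qU, hres]
    show TensorProduct.lid k k (TensorProduct.map (qA g) (qU u) (_ - _)) = _
    rw [map_sub, map_sub]
    refine congrArg₂ (· - ·) ?_ (by simp [qA, qU])
    refine (e1 _).trans ?_
    rw [ev_mul, AlgHom.convMul_apply]
  let d : A →ₗ[C] A ⊗[k] B :=
    { toFun := d₀
      map_add' := fun a a' => tensor_eq_of_forall qA qU hqA hqU fun g u => by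
        show E g u (d₀ (a + a')) = TensorProduct.lid k k (TensorProduct.map (qA g) (qU u) (d₀ a + d₀ a'))
        rw [map_add, map_add]
        show _ = E g u (d₀ a) + E g u (d₀ a')
        rw [hd₀, hd₀, hd₀, map_add, map_add]; ring
      map_smul' := fun c a => tensor_eq_of_forall qA qU hqA hqU fun g u => by
        have e1 : ∀ s : A ⊗[k] B, E g u (c • s) = (ev ψ g).ofConv (algebraMap C A c) * E g u s := by
          intro s
          induction s using TensorProduct.induction_on with
          | zero => simp [E]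
          | add s t hs ht =>
            simp only [E, smul_add, map_add] at hs ht ⊢
            rw [hs, ht, mul_add]
          | tmul a b => rw [TensorProduct.smul_tmul', hE, hE, Algebra.smul_def, map_mul, _root_.mul_assoc]
        show E g u (d₀ (c • a)) = E g u (c • d₀ a)
        rw [e1, hd₀, hd₀, Algebra.smul_def, map_mul, map_mul]
        have hinv : (ev ψ (g * (u ≫ v ≫ i))).ofConv (algebraMap C A c) =
            (ev ψ g).ofConv (algebraMap C A c) := by
          rw [hσ, hσ]
          congr 1
          have := congrArg (fun f => lift g (u ≫ v) ≫ f) sq.w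
          simp only [← Category.assoc, lift_fst] at this
          rw [Category.assoc (lift g (u ≫ v)), hpt, lift_fst, lift_snd, Category.assoc u v i] at this
          exact this.symm
        rw [hinv]; ring }
  -- the cocycle
  let w : A ⊗[C] A := e.inv ((snd G H).left.appTop φ')
  have hw : ∀ q, P q w = val (q ≫ snd G H) φ' := fun q => by
    show val q (e.hom (e.inv _)) = _
    rw [← CommRingCat.comp_apply, e.inv_hom_id]
    rfl
  let as := TensorProduct.AlgebraTensorModule.assoc k C C A A B
  have key : as.symm (d.lTensor A w) = (1 : A ⊗[C] A) ⊗ₜ[k] φB := by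
    refine tensor_eq_of_forall p qU hpsep hqU fun q u => ?_
    let q' : VecGrp.pt k k ⟶ G ⊗ H := lift (q ≫ fst G H) ((q ≫ snd G H) * (u ≫ v))
    have e2 : ∀ t : A ⊗[C] A,
        TensorProduct.lid k k (TensorProduct.map (p q) (qU u) (as.symm (d.lTensor A t))) = P q' t - P q t := by
      intro t
      induction t using TensorProduct.induction_on with
      | zero => simp [hP0]
      | add s t hs ht => simp only [map_add, hs, ht, hPadd]; ring
      | tmul a b =>
        have e3 : ∀ s : A ⊗[k] B,
            TensorProduct.lid k k (TensorProduct.map (p q) (qU u) (as.symm (a ⊗ₜ[C] s))) =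
              (ev ψ (q ≫ fst G H)).ofConv a * E ((q ≫ fst G H) * ((q ≫ snd G H) ≫ i)) u s := by
          intro s
          induction s using TensorProduct.induction_on with
          | zero => simp [E]
          | add s t hs ht => simp only [E, TensorProduct.tmul_add, map_add, mul_add] at hs ht ⊢; rw [hs, ht]
          | tmul a' b' =>
            rw [hE, show as.symm (a ⊗ₜ[C] (a' ⊗ₜ[k] b')) = (a ⊗ₜ[C] a') ⊗ₜ[k] b' from rfl, TensorProduct.map_tmul,
              TensorProduct.lid_tmul, smul_eq_mul]
            show P q (a ⊗ₜ[C] a') * _ = _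
            rw [hP, _root_.mul_assoc]
            rfl
        rw [LinearMap.lTensor_tmul, e3]
        show _ * E _ u (d₀ b) = _
        rw [hd₀, hP, hP, mul_sub]
        simp only [q', lift_fst, lift_snd, MonObj.mul_comp, Category.assoc, _root_.mul_assoc]
    rw [e2, hw, hw, TensorProduct.map_tmul, TensorProduct.lid_tmul, lift_snd, hφ, val_fn,
      show p q 1 = 1 by
        show val q (e.hom (1 : A ⊗[C] A)) = 1
        rw [show e.hom (1 : A ⊗[C] A) = 1 from map_one e.hom.hom, val_one]]
    simp [qU]
  have key' : d.lTensor A w = (1 : A) ⊗ₜ[C] ((1 : A) ⊗ₜ[k] φB) := by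
    rw [← as.apply_symm_apply (d.lTensor A w), key]
    rfl
  have hmem : (1 : A) ⊗ₜ[k] φB ∈ LinearMap.range d := by
    rw [← Submodule.Quotient.mk_eq_zero]
    refine Module.FaithfullyFlat.tensorProduct_mk_injective (A := C) (B := A) _ ?_
    rw [map_zero]
    show (1 : A) ⊗ₜ[C] (LinearMap.range d).mkQ _ = 0
    rw [← LinearMap.lTensor_tmul, ← key', ← LinearMap.lTensor_comp_apply, LinearMap.range_mkQ_comp,
      LinearMap.lTensor_zero, LinearMap.zero_apply]
  obtain ⟨c, hc⟩ := hmem
  refine ⟨fn ψ c, fun g z => ?_⟩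
  have := congrArg (E g z) hc
  rw [hE, map_one, _root_.one_mul] at this
  rw [val_fn, val_fn, val_fn, ← this]
  show _ = _ + E g z (d₀ c)
  rw [hd₀]; ring

end Groth.L16.Matsushima
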